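import Groth.Agent.GRRSing.K937.KaehlerGen
import Mathlib.FieldTheory.IsAlgClosed.AlgebraicClosure
import Mathlib.RingTheory.IntegralClosure.Algebra.Basic
import Mathlib.RingTheory.FiniteType
import Mathlib.RingTheory.TensorProduct.Finite
import Mathlib.RingTheory.Ideal.KrullsHeightTheorem

/-!
# Fibres of Kähler differentials after passing to the algebraic closure
-/

universe u
open scoped TensorProduct

namespace K937.KG

open IsLocalRing

theorem algebraMap_residueField_surjective {k B : Type u} [Field k] [IsAlgClosed k] [CommRing B] [Algebra k B]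
    [Algebra.FiniteType k B] (n : Ideal B) [n.IsMaximal] :
    Function.Surjective (algebraMap k n.ResidueField) := by
  have h1 : Algebra.FiniteType k n.ResidueField :=
    Algebra.FiniteType.of_surjective (IsScalarTower.toAlgHom k B n.ResidueField)
      (Ideal.algebraMap_residueField_surjective n)
  have h2 : Module.Finite k n.ResidueField := finite_of_finite_type_of_isJacobsonRing k n.ResidueField
  have h3 : Algebra.IsIntegral k n.ResidueField := Algebra.IsIntegral.of_finite k n.ResidueField
  exact (IsAlgClosed.algebraMap_bijective_of_isIntegral (k := k) (K := n.ResidueField)).2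

theorem fibre_finrank_le {K Kb A B : Type u} [Field K] [Field Kb] [IsAlgClosed Kb] [Algebra K Kb]
    [CommRing A] [Algebra K A] [Algebra.FiniteType K A] [CommRing B] [Algebra Kb B] [Algebra A B]
    [Algebra K B] [IsScalarTower K Kb B] [IsScalarTower K A B] [Algebra.IsPushout K Kb A B]
    (n : Ideal B) [n.IsMaximal] (m : Ideal A) [m.IsMaximal] (hm : n.comap (algebraMap A B) = m) :
    Module.finrank (A ⧸ m) ((A ⧸ m) ⊗[A] Ω[A⁄K]) ≤
      Module.finrank n.ResidueField (CotangentSpace (Localization.AtPrime n)) := by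
  have hft : Algebra.FiniteType Kb B :=
    Algebra.FiniteType.of_surjective (Algebra.IsPushout.equiv K Kb A B).toAlgHom
      (Algebra.IsPushout.equiv K Kb A B).surjective
  have hnoeth : IsNoetherianRing B := Algebra.FiniteType.isNoetherianRing Kb B
  have hnoeth' : IsNoetherianRing (Localization.AtPrime n) :=
    IsLocalization.isNoetherianRing n.primeCompl _ hnoeth
  have hs : Function.Surjective (algebraMap Kb n.ResidueField) := algebraMap_residueField_surjective n
  refine le_trans (le_of_eq ?_) (finrank_le_cotangent (k := Kb) (C := Localization.AtPrime n) hs)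
  -- identification of the two fibres
  let : Field (A ⧸ m) := Ideal.Quotient.field m
  have hker : ∀ a ∈ m, algebraMap A n.ResidueField a = 0 := by
    intro a ha
    rw [IsScalarTower.algebraMap_apply A B n.ResidueField]
    rw [Ideal.algebraMap_residueField_eq_zero]
    rw [← hm] at ha
    exact ha
  let : Algebra (A ⧸ m) n.ResidueField := (Ideal.Quotient.lift m (algebraMap A n.ResidueField) hker).toAlgebra
  have : IsScalarTower A (A ⧸ m) n.ResidueField := IsScalarTower.of_algebraMap_eq fun a => rfl
  let L := n.ResidueField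
  have e1 : Module.finrank (A ⧸ m) ((A ⧸ m) ⊗[A] Ω[A⁄K]) =
      Module.finrank L (L ⊗[A ⧸ m] ((A ⧸ m) ⊗[A] Ω[A⁄K])) := Module.finrank_baseChange.symm
  let E1 : L ⊗[A ⧸ m] ((A ⧸ m) ⊗[A] Ω[A⁄K]) ≃ₗ[L] L ⊗[A] Ω[A⁄K] :=
    TensorProduct.AlgebraTensorModule.cancelBaseChange A (A ⧸ m) L L Ω[A⁄K]
  let E2 : L ⊗[B] (B ⊗[A] Ω[A⁄K]) ≃ₗ[L] L ⊗[A] Ω[A⁄K] :=
    TensorProduct.AlgebraTensorModule.cancelBaseChange A B L L Ω[A⁄K]
  let E3 : L ⊗[B] (B ⊗[A] Ω[A⁄K]) ≃ₗ[L] L ⊗[B] Ω[B⁄Kb] :=
    TensorProduct.AlgebraTensorModule.congr (LinearEquiv.refl L L) (KaehlerDifferential.tensorKaehlerEquiv K Kb A B)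
  have hfe : Algebra.FormallyEtale B (Localization.AtPrime n) :=
    Algebra.FormallyEtale.of_isLocalization n.primeCompl
  let E4 : L ⊗[Localization.AtPrime n] ((Localization.AtPrime n) ⊗[B] Ω[B⁄Kb]) ≃ₗ[L] L ⊗[B] Ω[B⁄Kb] :=
    TensorProduct.AlgebraTensorModule.cancelBaseChange B (Localization.AtPrime n) L L Ω[B⁄Kb]
  let E5 : L ⊗[Localization.AtPrime n] ((Localization.AtPrime n) ⊗[B] Ω[B⁄Kb]) ≃ₗ[L]
      L ⊗[Localization.AtPrime n] Ω[Localization.AtPrime n⁄Kb] :=
    TensorProduct.AlgebraTensorModule.congr (LinearEquiv.refl L L)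
      (KaehlerDifferential.tensorKaehlerEquivOfFormallyEtale Kb B (Localization.AtPrime n))
  rw [e1]
  exact (E1 ≪≫ₗ E2.symm ≪≫ₗ E3 ≪≫ₗ E4.symm ≪≫ₗ E5).finrank_eq

theorem ringKrullDim_le_of_isIntegral' {R A : Type*} [CommRing R] [CommRing A] [Algebra R A]
    [Algebra.IsIntegral R A] : ringKrullDim A ≤ ringKrullDim R := by
  refine Order.krullDim_le_of_strictMono (fun x : PrimeSpectrum A ↦ PrimeSpectrum.comap (algebraMap R A) x) ?_
  intro x y hxy
  exact Ideal.IsIntegral.comap_lt_comap (R := R) (A := A) hxy

attribute [local instance] Algebra.TensorProduct.rightAlgebra in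
/-- The number of generators of the differentials of a finite type algebra in terms of the embedding dimensions of
its geometric fibre. -/
theorem exists_kaehler_generators {K : Type u} [Field K] {A : Type u} [CommRing A] [Algebra K A]
    [Algebra.FiniteType K A]
    (hhyp : ∀ (q : Ideal (TensorProduct K (AlgebraicClosure K) A)) [q.IsPrime],
      (Module.finrank (IsLocalRing.ResidueField (Localization.AtPrime q))
          (IsLocalRing.CotangentSpace (Localization.AtPrime q)) : ℕ∞) ≤ q.height + 1)
    (d : ℕ) (hd : ringKrullDim A = d) (p : Ideal A) [p.IsPrime] :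
    ∃ s : Finset (LocalizedModule p.primeCompl (KaehlerDifferential K A)),
      s.card ≤ d + 1 ∧ Submodule.span (Localization.AtPrime p)
        (s : Set (LocalizedModule p.primeCompl (KaehlerDifferential K A))) = ⊤ := by
  obtain ⟨m, hm, hpm⟩ := Ideal.exists_le_maximal p (Ideal.IsPrime.ne_top ‹_›)
  let B := TensorProduct K (AlgebraicClosure K) A
  have hint : Algebra.IsIntegral A B := by
    have h1 : Algebra.IsIntegral A (TensorProduct K A (AlgebraicClosure K)) := inferInstance
    exact Algebra.IsIntegral.of_surjective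
      ((Algebra.TensorProduct.commRight K A (AlgebraicClosure K))).toAlgHom (AlgEquiv.surjective _)
  have hinj : Function.Injective (algebraMap A B) :=
    Algebra.TensorProduct.includeRight_injective (algebraMap K (AlgebraicClosure K)).injective
  obtain ⟨n, hn, hnm⟩ := Ideal.exists_ideal_over_maximal_of_isIntegral (S := B) m (by
    rw [(RingHom.injective_iff_ker_eq_bot _).mp hinj]
    exact bot_le)
  have hle := fibre_finrank_le (K := K) (Kb := AlgebraicClosure K) (A := A) (B := B) n m hnm
  refine exists_generators_of_finrank_le m p hpm (d + 1) (hle.trans ?_)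
  have h1 := hhyp n
  have h2 : (n.height : WithBot ℕ∞) ≤ d := by
    rw [← hd]
    exact (Ideal.height_le_ringKrullDim_of_isPrime).trans ringKrullDim_le_of_isIntegral'
  have h3 : n.height ≤ (d : ℕ∞) := by exact_mod_cast h2
  have h4 : ((Module.finrank (IsLocalRing.ResidueField (Localization.AtPrime n))
          (IsLocalRing.CotangentSpace (Localization.AtPrime n)) : ℕ) : ℕ∞) ≤ ((d + 1 : ℕ) : ℕ∞) := by
    refine h1.trans ?_
    push_cast
    exact add_le_add_left h3 1
  exact_mod_cast h4

end K937.KG
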