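import Mathlib.RingTheory.Kaehler.Basic
import Mathlib.RingTheory.Kaehler.TensorProduct
import Mathlib.RingTheory.Etale.Kaehler
import Mathlib.RingTheory.Etale.Basic
import Mathlib.RingTheory.Unramified.Finite
import Mathlib.Algebra.Module.SpanRankOperations
import Mathlib.RingTheory.LocalRing.ResidueField.Ideal
import Mathlib.RingTheory.Ideal.Height
import Mathlib.RingTheory.Jacobson.Ring
import Mathlib.RingTheory.Nakayama
import Mathlib.FieldTheory.IsAlgClosed.Basic
import Mathlib.RingTheory.Ideal.GoingUp

/-!
# Number of generators of Kähler differentials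

* `K937.KG.finrank_le_cotangent`: for a Noetherian local `k`-algebra `C` with residue field `k`,
  `dim κ ⊗ Ω_{C/k} ≤ dim 𝔪/𝔪²`.
* `K937.KG.exists_generators_of_finrank_le`: generators of `M_p` from the fibre of `M` at a maximal ideal `m ⊇ p`.
-/

universe u
open scoped TensorProduct

namespace K937.KG

open IsLocalRing

/-- For a local `k`-algebra with residue field `k`, the fibre of the differentials is at most the embedding
dimension. -/
theorem finrank_le_cotangent {k C : Type u} [Field k] [CommRing C] [IsLocalRing C] [IsNoetherianRing C]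
    [Algebra k C] (hs : Function.Surjective (algebraMap k (ResidueField C))) :
    Module.finrank (ResidueField C) (ResidueField C ⊗[C] Ω[C⁄k]) ≤
      Module.finrank (ResidueField C) (CotangentSpace C) := by
  classical
  rw [← spanFinrank_maximalIdeal_eq_finrank_cotangentSpace]
  obtain ⟨s, hs1, hs2⟩ :=
    (Submodule.FG.exists_span_finset_card_eq_spanFinrank (IsNoetherian.noetherian (maximalIdeal C)))
  rw [← hs1]
  let T : Submodule (ResidueField C) (ResidueField C ⊗[C] Ω[C⁄k]) :=
    Submodule.span (ResidueField C) ((s.image fun x => (1 : ResidueField C) ⊗ₜ[C] KaehlerDifferential.D k C x :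
      Finset (ResidueField C ⊗[C] Ω[C⁄k])) : Set (ResidueField C ⊗[C] Ω[C⁄k]))
  have h1 : ∀ y ∈ maximalIdeal C, (1 : ResidueField C) ⊗ₜ[C] KaehlerDifferential.D k C y ∈ T := by
    intro y hy
    have hy' : y ∈ Submodule.span C (s : Set C) := by rw [hs2]; exact hy
    induction hy' using Submodule.span_induction with
    | mem x hx =>
      refine Submodule.subset_span ?_
      rw [Finset.coe_image]
      exact ⟨x, hx, rfl⟩
    | zero => rw [map_zero, TensorProduct.tmul_zero]; exact Submodule.zero_mem _
    | add a b ha hb iha ihb =>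
      have ha' : a ∈ maximalIdeal C := by rw [← hs2]; exact ha
      have hb' : b ∈ maximalIdeal C := by rw [← hs2]; exact hb
      rw [map_add, TensorProduct.tmul_add]
      exact Submodule.add_mem _ (iha ha') (ihb hb')
    | smul c z hz ihz =>
      have hz' : z ∈ maximalIdeal C := by rw [← hs2]; exact hz
      rw [smul_eq_mul, Derivation.leibniz, TensorProduct.tmul_add, ← TensorProduct.smul_tmul,
        ← TensorProduct.smul_tmul]
      refine Submodule.add_mem _ ?_ ?_
      · rw [Algebra.smul_def, mul_one]
        have : (algebraMap C (ResidueField C)) c ⊗ₜ[C] KaehlerDifferential.D k C z =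
            (algebraMap C (ResidueField C)) c • ((1 : ResidueField C) ⊗ₜ[C] KaehlerDifferential.D k C z) := by
          rw [TensorProduct.smul_tmul', smul_eq_mul, mul_one]
        rw [this]
        exact Submodule.smul_mem _ _ (ihz hz')
      · rw [Algebra.smul_def, mul_one]
        have : (algebraMap C (ResidueField C)) z = 0 := (residue_eq_zero_iff z).mpr hz'
        rw [this, TensorProduct.zero_tmul]
        exact Submodule.zero_mem _
  have h2 : ∀ c : C, (1 : ResidueField C) ⊗ₜ[C] KaehlerDifferential.D k C c ∈ T := by
    intro c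
    obtain ⟨l, hl⟩ := hs (algebraMap C (ResidueField C) c)
    have hmem : c - algebraMap k C l ∈ maximalIdeal C := by
      rw [← residue_eq_zero_iff, map_sub, sub_eq_zero]
      show algebraMap C (ResidueField C) c = algebraMap C (ResidueField C) (algebraMap k C l)
      rw [← hl, ← IsScalarTower.algebraMap_apply]
    have := h1 _ hmem
    rwa [map_sub, Derivation.map_algebraMap, sub_zero] at this
  have h3 : ∀ ω : Ω[C⁄k], (1 : ResidueField C) ⊗ₜ[C] ω ∈ T := by
    intro ω
    have hω : ω ∈ Submodule.span C (Set.range (KaehlerDifferential.D k C)) := by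
      rw [KaehlerDifferential.span_range_derivation]; exact Submodule.mem_top
    induction hω using Submodule.span_induction with
    | mem x hx => obtain ⟨c, rfl⟩ := hx; exact h2 c
    | zero => rw [TensorProduct.tmul_zero]; exact Submodule.zero_mem _
    | add a b _ _ iha ihb => rw [TensorProduct.tmul_add]; exact Submodule.add_mem _ iha ihb
    | smul c z _ ihz =>
      have : (1 : ResidueField C) ⊗ₜ[C] (c • z) =
          (algebraMap C (ResidueField C)) c • ((1 : ResidueField C) ⊗ₜ[C] z) := by
        rw [TensorProduct.smul_tmul', smul_eq_mul, mul_one, ← TensorProduct.smul_tmul, Algebra.smul_def, mul_one]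
      rw [this]
      exact Submodule.smul_mem _ _ ihz
  have h4 : T = ⊤ := by
    rw [eq_top_iff]
    intro x _
    induction x using TensorProduct.induction_on with
    | zero => exact Submodule.zero_mem _
    | tmul a ω =>
      have : a ⊗ₜ[C] ω = a • ((1 : ResidueField C) ⊗ₜ[C] ω) := by
        rw [TensorProduct.smul_tmul', smul_eq_mul, mul_one]
      rw [this]
      exact Submodule.smul_mem _ _ (h3 ω)
    | add x y hx hy => exact Submodule.add_mem _ (hx Submodule.mem_top) (hy Submodule.mem_top)
  have h5 := finrank_span_finset_le_card (R := ResidueField C)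
    (s.image fun x => (1 : ResidueField C) ⊗ₜ[C] KaehlerDifferential.D k C x)
  have h6 : Module.finrank (ResidueField C) T = Module.finrank (ResidueField C) (ResidueField C ⊗[C] Ω[C⁄k]) := by
    rw [h4, finrank_top]
  rw [← h6]
  exact h5.trans Finset.card_image_le

/-- Elements generating the fibre at a maximal ideal generate locally at every smaller prime. -/
theorem exists_generators_of_finrank_le {A : Type u} [CommRing A] {M : Type u} [AddCommGroup M] [Module A M]
    [Module.Finite A M] (m p : Ideal A) [m.IsMaximal] [p.IsPrime] (hpm : p ≤ m) (e : ℕ)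
    (h : Module.finrank (A ⧸ m) ((A ⧸ m) ⊗[A] M) ≤ e) :
    ∃ s : Finset (LocalizedModule p.primeCompl M), s.card ≤ e ∧
      Submodule.span (Localization.AtPrime p) (s : Set (LocalizedModule p.primeCompl M)) = ⊤ := by
  classical
  let : Field (A ⧸ m) := Ideal.Quotient.field m
  let b := Module.finBasis (A ⧸ m) ((A ⧸ m) ⊗[A] M)
  have hsurj : Function.Surjective (TensorProduct.mk A (A ⧸ m) M 1) := by
    exact TensorProduct.mk_surjective A M (A ⧸ m) Ideal.Quotient.mk_surjective
  choose x hx using fun i => hsurj (b i)
  -- the span of the `x i`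
  let N : Submodule A M := Submodule.span A (Set.range x)
  have h1 : ⊤ ≤ N ⊔ m • (⊤ : Submodule A M) := by
    intro y _
    have hy : (1 : A ⧸ m) ⊗ₜ[A] y ∈ Submodule.span (A ⧸ m) (Set.range b) := by
      rw [b.span_eq]; exact Submodule.mem_top
    have hrange : Submodule.span (A ⧸ m) (Set.range b) =
        Submodule.span (A ⧸ m) (Set.range fun i => (1 : A ⧸ m) ⊗ₜ[A] x i) := by
      congr 1
      exact congrArg Set.range (funext fun i => (hx i).symm)
    rw [hrange] at hy
    obtain ⟨c, hc⟩ := (Submodule.mem_span_range_iff_exists_fun _).mp hy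
    choose c' hc' using fun i => Ideal.Quotient.mk_surjective (c i)
    have h2 : (1 : A ⧸ m) ⊗ₜ[A] (y - ∑ i, c' i • x i) = 0 := by
      rw [TensorProduct.tmul_sub, TensorProduct.tmul_sum, sub_eq_zero, ← hc]
      refine Finset.sum_congr rfl fun i _ => ?_
      have e1 : (1 : A ⧸ m) ⊗ₜ[A] (c' i • x i) = (Ideal.Quotient.mk m (c' i)) ⊗ₜ[A] x i := by
        rw [← TensorProduct.smul_tmul, Algebra.smul_def, mul_one]
        rfl
      rw [e1, TensorProduct.smul_tmul', hc' i, smul_eq_mul, mul_one]
    have h3 : y - ∑ i, c' i • x i ∈ m • (⊤ : Submodule A M) := by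
      have h4 := (TensorProduct.quotTensorEquivQuotSMul M m).injective.eq_iff (a := (1 : A ⧸ m) ⊗ₜ[A]
        (y - ∑ i, c' i • x i)) (b := 0)
      have h5 := h4.mpr h2
      rw [map_zero] at h5
      have h6 : (TensorProduct.quotTensorEquivQuotSMul M m) ((1 : A ⧸ m) ⊗ₜ[A] (y - ∑ i, c' i • x i)) =
          Submodule.Quotient.mk (y - ∑ i, c' i • x i) := by
        have := TensorProduct.quotTensorEquivQuotSMul_mk_tmul m (1 : A) (y - ∑ i, c' i • x i)
        rw [one_smul] at this
        exact this
      rw [h6, Submodule.Quotient.mk_eq_zero] at h5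
      exact h5
    have h7 : y = (∑ i, c' i • x i) + (y - ∑ i, c' i • x i) := by abel
    rw [h7]
    exact Submodule.add_mem_sup (Submodule.sum_mem _ fun i _ =>
      Submodule.smul_mem _ _ (Submodule.subset_span ⟨i, rfl⟩)) h3
  -- Nakayama: some `r ∉ m` kills `M / N`
  have h2 : ∃ r : A, r ∉ m ∧ ∀ y : M, r • y ∈ N := by
    have hfg : (⊤ : Submodule A (M ⧸ N)).FG := Module.Finite.fg_top
    have hle : (⊤ : Submodule A (M ⧸ N)) ≤ m • (⊤ : Submodule A (M ⧸ N)) := by
      intro z _
      obtain ⟨y, rfl⟩ := N.mkQ_surjective z
      obtain ⟨n, hn, w, hw, rfl⟩ := Submodule.mem_sup.mp (h1 (Submodule.mem_top (x := y)))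
      rw [map_add, (Submodule.Quotient.mk_eq_zero N).mpr hn |> (fun h => show N.mkQ n = 0 from h), zero_add]
      have : N.mkQ w ∈ Submodule.map N.mkQ (m • (⊤ : Submodule A M)) := ⟨w, hw, rfl⟩
      rw [Submodule.map_smul''] at this
      exact Submodule.smul_mono le_rfl le_top this
    obtain ⟨r, hr1, hr2⟩ := Submodule.exists_sub_one_mem_and_smul_eq_zero_of_fg_of_le_smul m _ hfg hle
    refine ⟨r, fun hrm => ?_, fun y => ?_⟩
    · have : (1 : A) ∈ m := by
        have := m.sub_mem hrm hr1
        rwa [sub_sub_cancel] at this
      exact (Ideal.ne_top_iff_one m).mp (Ideal.IsMaximal.ne_top ‹_›) this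
    · have := hr2 (N.mkQ y) Submodule.mem_top
      rw [← map_smul] at this
      exact (Submodule.Quotient.mk_eq_zero N).mp this
  obtain ⟨r, hrm, hr⟩ := h2
  refine ⟨Finset.univ.image fun i => LocalizedModule.mk (x i) 1, ?_, ?_⟩
  · refine Finset.card_image_le.trans ?_
    rw [Finset.card_univ, Fintype.card_fin]
    exact h
  · rw [eq_top_iff]
    intro z _
    induction z using LocalizedModule.induction_on with
    | h y t =>
      have hrp : r ∈ p.primeCompl := fun hrp => hrm (hpm hrp)
      have h3 : LocalizedModule.mk (r • y) (1 : p.primeCompl) ∈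
          Submodule.span (Localization.AtPrime p) ((Finset.univ.image fun i =>
            LocalizedModule.mk (x i) (1 : p.primeCompl) : Finset _) : Set (LocalizedModule p.primeCompl M)) := by
        have h4 := hr y
        obtain ⟨c, hc⟩ := (Submodule.mem_span_range_iff_exists_fun _).mp h4
        rw [← hc]
        have h5 : LocalizedModule.mk (∑ i, c i • x i) (1 : p.primeCompl) =
            ∑ i, (algebraMap A (Localization.AtPrime p) (c i)) • LocalizedModule.mk (x i) (1 : p.primeCompl) := by
          have : ∀ w : M, LocalizedModule.mk w (1 : p.primeCompl) = LocalizedModule.mkLinearMap p.primeCompl M w :=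
            fun w => rfl
          rw [this, map_sum]
          refine Finset.sum_congr rfl fun i _ => ?_
          rw [map_smul, algebraMap_smul]
          rfl
        rw [h5]
        refine Submodule.sum_mem _ fun i _ => Submodule.smul_mem _ _ (Submodule.subset_span ?_)
        rw [Finset.coe_image]
        exact ⟨i, Finset.mem_coe.mpr (Finset.mem_univ i), rfl⟩
      have h4 : LocalizedModule.mk y t = (Localization.mk 1 (⟨r, hrp⟩ * t)) •
          LocalizedModule.mk (r • y) (1 : p.primeCompl) := by
        rw [LocalizedModule.mk_smul_mk, one_smul, mul_one, LocalizedModule.mk_eq]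
        refine ⟨1, ?_⟩
        simp only [one_smul]
        rw [Submonoid.smul_def, Submonoid.smul_def, Submonoid.coe_mul, smul_smul]
        congr 1
        ring
      rw [h4]
      exact Submodule.smul_mem _ _ h3

end K937.KG
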