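import Groth.Agent.Sga67.CohLoc
import Groth.Agent.Sga67.ProjKoszul
import Groth.Agent.Dcoh.TensRestr
import Groth.Agent.Ega2.TensMon
import Groth.Agent.CohqB.QC2

/-!
# The filtration of `K₀(Coh W)` by vanishing on opens

* `FO O` : the subgroup of `K₀(Coh W)` generated by the classes of coherent modules vanishing on the open `O`.
* `sub_mem_FO_sup` : coherent modules vanishing on `O` which are isomorphic over `U` have classes
  differing by an element of `FO (O ⊔ U)`.
* `tensor_restrict_iso` : `(V ⊗ M)|_U ≅ (M^r)|_U` when `V|_U ≅ O_U^r`.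
-/

set_option autoImplicit false

universe u

open CategoryTheory CategoryTheory.Limits AlgebraicGeometry Opposite TopologicalSpace
open AlgebraicGeometry.Scheme.Modules
open scoped ZeroObject
open Groth.Agent.Sga67.CohBasic Groth.Agent.Sga67.K0Loc Groth.Agent.Sga67.IdealTorsion
  Groth.Agent.Sga67.CohLoc

namespace Groth.Agent.GRRSing.K937.KcohVan

variable {W : Scheme.{u}}

/-- `M` vanishes on the open `O`. -/
def Van (O : W.Opens) (M : W.Modules) : Prop := IsZero ((restrictFunctor O.ι).obj M)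

theorem van_iff (O : W.Opens) (M : W.Modules) :
    Van O M ↔ ∀ V : W.Opens, V ≤ O → Subsingleton Γ(M, V) := by
  constructor
  · intro h V hV
    have hle : (V : Set W) ⊆ Set.range O.ι := by
      intro x hx
      rw [Scheme.Opens.range_ι]
      exact hV hx
    have hW' : O.ι ''ᵁ (O.ι ⁻¹ᵁ V) = V := by
      rw [Scheme.Hom.image_preimage_eq_opensRange_inf]
      exact inf_eq_right.2 hle
    have h1 : Subsingleton Γ((restrictFunctor O.ι).obj M, O.ι ⁻¹ᵁ V) := subsingleton_of_isZero h _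
    have h2 : Subsingleton Γ(M, O.ι ''ᵁ (O.ι ⁻¹ᵁ V)) := h1
    rwa [hW'] at h2
  · intro h
    refine Groth.Agent.CohqB.LocalQC.isZero_of_subsingleton_sections fun V => ?_
    exact h (O.ι ''ᵁ V) (by
      rintro x ⟨y, -, rfl⟩
      exact y.2)

theorem van_sup {O U : W.Opens} {M : W.Modules} (h₁ : Van O M) (h₂ : Van U M) : Van (O ⊔ U) M := by
  rw [van_iff] at h₁ h₂ ⊢
  intro V hV
  refine ⟨fun a b => ?_⟩
  rw [← sub_eq_zero]
  refine eq_zero_of_locally M _ fun x hx => ?_
  rcases (hV hx : x ∈ O ∨ x ∈ U) with h | h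
  · refine ⟨V ⊓ O, inf_le_left, ⟨hx, h⟩, ?_⟩
    have := h₁ (V ⊓ O) inf_le_right
    exact Subsingleton.elim _ _
  · refine ⟨V ⊓ U, inf_le_left, ⟨hx, h⟩, ?_⟩
    have := h₂ (V ⊓ U) inf_le_right
    exact Subsingleton.elim _ _

theorem van_bot (M : W.Modules) : Van (⊥ : W.Opens) M := by
  rw [van_iff]
  intro V hV
  refine ⟨fun a b => ?_⟩
  rw [← sub_eq_zero]
  exact eq_zero_of_locally M _ fun x hx => (hV hx : False).elim

theorem isZero_of_van_top {M : W.Modules} (h : Van (⊤ : W.Opens) M) : IsZero M := by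
  rw [van_iff] at h
  exact Groth.Agent.CohqB.LocalQC.isZero_of_subsingleton_sections fun V => h V le_top

/-- The property: coherent and vanishing on `O`. -/
def PO (O : W.Opens) : ObjectProperty W.Modules := fun M => Coh.IsCoh M ∧ Van O M

/-- Objects over `U` which extend to coherent modules vanishing on `O`. -/
def RO (O U : W.Opens) : ObjectProperty (U : Scheme.{u}).Modules := fun Y =>
  ∃ X : W.Modules, PO O X ∧ Nonempty ((restrictFunctor U.ι).obj X ≅ Y)

variable [IsNoetherian W]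

theorem locHyp (O U : W.Opens) : LocHyp (restrictFunctor U.ι) (pushforward U.ι)
    (restrictAdjunction U.ι) (PO O) (fun M : W.Modules => Coh.IsQCoh M) (RO O U) where
  counit _ := inferInstance
  zeroP := ⟨(0 : W.Modules), isZero_zero _, isCoh_of_isZero (isZero_zero _),
    Functor.map_isZero _ (isZero_zero _)⟩
  zeroR := ⟨(0 : (U : Scheme.{u}).Modules), isZero_zero _, (0 : W.Modules),
    ⟨isCoh_of_isZero (isZero_zero _), Functor.map_isZero _ (isZero_zero _)⟩,
    ⟨(Functor.map_isZero _ (isZero_zero _)).iso (isZero_zero _)⟩⟩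
  map X hX := ⟨X, hX, ⟨Iso.refl _⟩⟩
  isoR e h := by
    obtain ⟨X, hX, ⟨e'⟩⟩ := h
    exact ⟨X, hX, ⟨e' ≪≫ e⟩⟩
  le _ h := h.1.1
  push Y h := by
    obtain ⟨X, hX, ⟨e⟩⟩ := h
    have h1 : Coh.IsQCoh ((restrictFunctor U.ι).obj X) :=
      Groth.Agent.PerfA.QCohSerre.isQCoh_restrict U.ι hX.1.1
    have h2 : Coh.IsQCoh Y := Groth.Agent.CohqB.QC2.isQuasicoherent_of_iso e h1
    exact isQCoh_push U.ι h2
  sum X Y h h' := ⟨isCoh_biprod h.1 h'.1, by
    have : PreservesBinaryBiproduct X Y (restrictFunctor O.ι) :=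
      (preservesBinaryBiproducts_of_preservesBiproducts _).preserves
    refine IsZero.of_iso ?_ ((restrictFunctor O.ι).mapBiprod X Y)
    exact biprod_isZero_iff _ _ |>.mpr ⟨h.2, h'.2⟩⟩
  image f h h' := ⟨isCoh_image f h.1 h', by
    exact IsZero.of_epi ((restrictFunctor O.ι).map (Abelian.factorThruImage f)) h.2⟩
  ker S hS h₂ h₃ := ⟨isCoh_X₁ hS h₂.1 h₃.1.1, by
    have := hS.mono_f
    exact IsZero.of_mono ((restrictFunctor O.ι).map S.f) h₂.2⟩
  coker S hS h₁ h₂ := ⟨isCoh_X₃ hS h₁.1.1 h₂.1, by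
    have := hS.epi_g
    exact IsZero.of_epi ((restrictFunctor O.ι).map S.g) h₂.2⟩
  ext Y hY := hY

/-- coherent modules -/
abbrev PC (W : Scheme.{u}) : ObjectProperty W.Modules := fun M => Coh.IsCoh M

/-- The subgroup of `K₀(Coh W)` generated by the classes of coherent modules vanishing on `O`. -/
noncomputable def FO (O : W.Opens) : AddSubgroup (SGA6.Kcoh W) :=
  AddSubgroup.closure {x | ∃ (M : W.Modules) (hM : Coh.IsCoh M), Van O M ∧ x = mk (PC W) M hM}

omit [AlgebraicGeometry.IsNoetherian W] in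
theorem mk_mem_FO {O : W.Opens} {M : W.Modules} (hM : Coh.IsCoh M) (h : Van O M) :
    mk (PC W) M hM ∈ FO O :=
  AddSubgroup.subset_closure ⟨M, hM, h, rfl⟩

omit [AlgebraicGeometry.IsNoetherian W] in
theorem FO_bot : FO (⊥ : W.Opens) = ⊤ :=
  eq_top_of_mk_mem _ fun M hM => mk_mem_FO hM (van_bot M)

omit [AlgebraicGeometry.IsNoetherian W] in
theorem FO_top : FO (⊤ : W.Opens) = ⊥ := by
  rw [FO, AddSubgroup.closure_eq_bot_iff]
  rintro x ⟨M, hM, h, rfl⟩
  rw [Set.mem_singleton_iff]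
  exact mk_of_isZero (isZero_of_van_top h) hM

/-- Coherent modules vanishing on `O` and isomorphic over `U` have classes differing by an element of
`FO (O ⊔ U)`. -/
theorem sub_mem_FO_sup {O U : W.Opens} {M M' : W.Modules} (hM : Coh.IsCoh M) (hM' : Coh.IsCoh M')
    (hO : Van O M) (hO' : Van O M')
    (e : (restrictFunctor U.ι).obj M ≅ (restrictFunctor U.ι).obj M') :
    mk (PC W) M hM - mk (PC W) M' hM' ∈ FO (O ⊔ U) := by
  let φ : KZero.K0sub (PO O) →+ SGA6.Kcoh W :=
    SGA6.mapSub (𝟭 W.Modules) (PO O) (PC W) (fun X h => h.1)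
  have hφ : ∀ (X : W.Modules) (hX : PO O X), φ (mk (PO O) X hX) = mk (PC W) X hX.1 :=
    fun X hX => mapSub_mk (𝟭 W.Modules) (PO O) (PC W) (fun X h => h.1) X hX
  have key := congr_of_iso_map (locHyp O U) ((FO (O ⊔ U)).comap φ) (by
    intro X hX h0
    rw [AddSubgroup.mem_comap, hφ]
    exact mk_mem_FO hX.1 (van_sup hX.2 h0)) (X := M) (X' := M') (show PO O M from ⟨hM, hO⟩)
    (show PO O M' from ⟨hM', hO'⟩) e
  rw [AddSubgroup.mem_comap, map_sub] at key
  have h1 := hφ M (show PO O M from ⟨hM, hO⟩)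
  have h2 := hφ M' (show PO O M' from ⟨hM', hO'⟩)
  exact (congrArg₂ (fun a b => a - b) h1 h2) ▸ key

/-! ### Tensoring with a module free over `U` -/

section Tensor

omit [AlgebraicGeometry.IsNoetherian W]

theorem additive_flip {X : Scheme.{u}} (N : X.Modules) : (DCoh.tensorBi.flip.obj N).Additive where
  map_add {A B f g} := by
    change ((DCoh.tensorBi.map (f + g)).app N) = _
    rw [Functor.map_add]
    rfl

/-- `(∐ O) ⊗ N ≅ ⨁ N`. -/
noncomputable def freeTensorIso {U : Scheme.{u}} (r : ℕ) (N : U.Modules) :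
    (DCoh.tensorBi.obj (FlatMod.freeMod U r)).obj N ≅ ⨁ fun _ : Fin r => N :=
  have : (DCoh.tensorBi.flip.obj N).Additive := additive_flip N
  ((DCoh.tensorBi.flip.obj N).mapIso
      (biproduct.isoCoproduct (fun _ : Fin r => Coh.structureModule U)).symm) ≪≫
    (DCoh.tensorBi.flip.obj N).mapBiproduct (fun _ : Fin r => Coh.structureModule U) ≪≫
    biproduct.mapIso (fun _ => Groth.Agent.Ega2.Tens.lunit N)

/-- `(V ⊗ M)|_U ≅ (⨁ M)|_U` when `V|_U` is free of rank `r`. -/
noncomputable def restrictTensorIso {U : W.Opens} (r : ℕ) {V : W.Modules}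
    (e : V.restrict U.ι ≅ FlatMod.freeMod (U : Scheme.{u}) r) (M : W.Modules) :
    (restrictFunctor U.ι).obj ((DCoh.tensorBi.obj V).obj M) ≅
      (restrictFunctor U.ι).obj (⨁ fun _ : Fin r => M) :=
  (Groth.Agent.Dcoh.TensRestr.restrApp U.ι V M).symm ≪≫
    (DCoh.tensorBi.mapIso e).app ((restrictFunctor U.ι).obj M) ≪≫
    freeTensorIso r ((restrictFunctor U.ι).obj M) ≪≫
    ((restrictFunctor U.ι).mapBiproduct (fun _ : Fin r => M)).symm

theorem van_tensor {O : W.Opens} (V : W.Modules) {M : W.Modules} (h : Van O M) :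
    Van O ((DCoh.tensorBi.obj V).obj M) :=
  IsZero.of_iso (Functor.map_isZero (DCoh.tensorBi.obj ((restrictFunctor O.ι).obj V)) h)
    (Groth.Agent.Dcoh.TensRestr.restrApp O.ι V M).symm

end Tensor

theorem isCoh_van_biproduct {O : W.Opens} (r : ℕ) {M : W.Modules} (hM : Coh.IsCoh M)
    (h : Van O M) : PO O (⨁ fun _ : Fin r => M) :=
  (Groth.Agent.Sga67.ProjKoszul.clSub_biproduct (P := PO O)
    (fun {X Y} e hX => ⟨isCoh_of_iso e hX.1, IsZero.of_iso hX.2 ((restrictFunctor O.ι).mapIso e).symm⟩)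
    (fun Z hZ => ⟨isCoh_of_isZero hZ, Functor.map_isZero _ hZ⟩)
    (fun {X Y} hX hY => (locHyp O O).sum X Y hX hY) M ⟨hM, h⟩ (Fin r)).1

theorem mk_biproduct (r : ℕ) {M : W.Modules} (hM : Coh.IsCoh M)
    (h : Coh.IsCoh (⨁ fun _ : Fin r => M)) :
    mk (PC W) (⨁ fun _ : Fin r => M) h = r • mk (PC W) M hM := by
  have := (Groth.Agent.Sga67.ProjKoszul.clSub_biproduct (P := PC W)
    (fun {X Y} e hX => isCoh_of_iso e hX)
    (fun Z hZ => isCoh_of_isZero hZ)
    (fun {X Y} hX hY => isCoh_biprod hX hY) M hM (Fin r)).2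
  rw [clSub_eq_mk (PC W) h, clSub_eq_mk (PC W) hM, Fintype.card_fin, natCast_zsmul] at this
  exact this

end Groth.Agent.GRRSing.K937.KcohVan
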