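import Groth.Prelude.Def_CAlg
import Mathlib.Algebra.Module.SpanRank
import Mathlib.RingTheory.Ideal.KrullsHeightTheorem
import Groth.Agent.Localalg.Depth2
import Groth.Agent.Ega4B.DepthBasic

/-!
# Minimal generating lists with a regular prefix

* `exchange`: exchange lemma for generating lists over a local ring.
* `exists_extend_step`: extend a regular prefix of a minimal generating list of `J` by one element,
  avoiding one further ideal.
-/

set_option autoImplicit false
universe u v

open RingTheory.Sequence IsLocalRing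

namespace Groth.Agent.GRRSing.K937.RegPrefix

theorem ofList_append {T : Type u} [CommRing T] (l₁ l₂ : List T) :
    Ideal.ofList (l₁ ++ l₂) = Ideal.ofList l₁ ⊔ Ideal.ofList l₂ :=
  Ideal.ofList_append l₁ l₂

theorem mem_ofList {T : Type u} [CommRing T] {l : List T} {x : T} (h : x ∈ l) :
    x ∈ Ideal.ofList l := Ideal.subset_span h

/-- Exchange lemma: `N + (l) = J`, `t ∈ J`, `t ∉ 𝔪J + N`: then `N + (t) + (l') = J` with `l'` one
element shorter than `l`. -/
theorem exchange {T : Type u} [CommRing T] [IsLocalRing T] (N : Ideal T) :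
    ∀ (l : List T) (J : Ideal T) (t : T), N ⊔ Ideal.ofList l = J → t ∈ J →
      t ∉ maximalIdeal T * J ⊔ N →
      ∃ l' : List T, l'.length + 1 = l.length ∧ (N ⊔ Ideal.span {t}) ⊔ Ideal.ofList l' = J := by
  intro l
  induction l with
  | nil =>
    intro J t hJ ht hnt
    rw [Ideal.ofList_nil, sup_bot_eq] at hJ
    exact absurd (Ideal.mem_sup_right (hJ ▸ ht)) hnt
  | cons a l ih =>
    intro J t hJ ht hnt
    rw [Ideal.ofList_cons] at hJ
    have haJ : a ∈ J := by
      rw [← hJ]
      exact Ideal.mem_sup_right (Ideal.mem_sup_left (Ideal.mem_span_singleton_self a))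
    have ht' : t ∈ Ideal.span {a} ⊔ (N ⊔ Ideal.ofList l) := by
      rw [sup_left_comm, hJ]; exact ht
    obtain ⟨y, hy, s, hs, hys⟩ := Submodule.mem_sup.mp ht'
    obtain ⟨b, rfl⟩ := Ideal.mem_span_singleton'.mp hy
    by_cases hb : b ∈ maximalIdeal T
    · -- then `s = t - b a` is not in `𝔪 J' + N`
      have hJ'le : N ⊔ Ideal.ofList l ≤ J := by
        rw [← hJ]; exact sup_le_sup_left le_sup_right _
      have hns : s ∉ maximalIdeal T * (N ⊔ Ideal.ofList l) ⊔ N := by
        intro h
        apply hnt
        rw [← hys]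
        refine Ideal.add_mem _ (Ideal.mem_sup_left (Ideal.mul_mem_mul hb haJ)) ?_
        exact (sup_le_sup_right (Ideal.mul_mono_right hJ'le) N) h
      obtain ⟨l', hl', hl''⟩ := ih (N ⊔ Ideal.ofList l) s rfl hs hns
      refine ⟨a :: l', by simpa using hl', ?_⟩
      rw [Ideal.ofList_cons]
      have hsmem : Ideal.span {s} ≤ Ideal.span {t} ⊔ Ideal.span {a} := by
        rw [Ideal.span_singleton_le_iff_mem]
        have : s = t + (-b) * a := by rw [← hys]; ring
        rw [this]
        exact Ideal.add_mem _ (Ideal.mem_sup_left (Ideal.mem_span_singleton_self t))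
          (Ideal.mem_sup_right (Ideal.mul_mem_left _ _ (Ideal.mem_span_singleton_self a)))
      apply le_antisymm
      · refine sup_le (sup_le ?_ ?_) (sup_le ?_ ?_)
        · rw [← hJ]; exact le_sup_left
        · rw [Ideal.span_singleton_le_iff_mem]; exact ht
        · rw [Ideal.span_singleton_le_iff_mem]; exact haJ
        · refine le_trans ?_ hJ'le
          rw [← hl'']; exact le_sup_right
      · rw [← hJ]
        refine sup_le (le_sup_of_le_left le_sup_left) (sup_le ?_ ?_)
        · exact le_sup_of_le_right le_sup_left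
        · have h1 : Ideal.ofList l ≤ N ⊔ Ideal.span {s} ⊔ Ideal.ofList l' := by
            rw [hl'']; exact le_sup_right
          refine h1.trans (sup_le (sup_le ?_ (hsmem.trans (sup_le ?_ ?_))) ?_)
          · exact le_sup_of_le_left le_sup_left
          · exact le_sup_of_le_left le_sup_right
          · exact le_sup_of_le_right le_sup_left
          · exact le_sup_of_le_right le_sup_right
    · have hbu : IsUnit b := by
        by_contra h
        exact hb ((mem_maximalIdeal b).mpr h)
      refine ⟨l, by simp, ?_⟩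
      obtain ⟨c, hc⟩ := hbu.exists_left_inv
      have ha : a ∈ Ideal.span {t} ⊔ (N ⊔ Ideal.ofList l) := by
        have : a = c * t + (-c) * s := by
          rw [← hys]
          linear_combination (-a) * hc
        rw [this]
        exact Ideal.add_mem _
          (Ideal.mem_sup_left (Ideal.mul_mem_left _ _ (Ideal.mem_span_singleton_self t)))
          (Ideal.mem_sup_right (Ideal.mul_mem_left _ _ hs))
      have e : (N ⊔ Ideal.span {t}) ⊔ Ideal.ofList l = Ideal.span {t} ⊔ (N ⊔ Ideal.ofList l) := by
        rw [sup_comm N, sup_assoc]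
      rw [e]
      apply le_antisymm
      · refine sup_le ?_ ?_
        · rw [Ideal.span_singleton_le_iff_mem]; exact ht
        · rw [← hJ]; exact sup_le_sup_left le_sup_right _
      · rw [← hJ, sup_left_comm]
        refine sup_le ?_ le_sup_right
        rw [Ideal.span_singleton_le_iff_mem]; exact ha

theorem isRegular_of_mem_maximal {T : Type u} [CommRing T] [IsLocalRing T]
    {rs : List T} (h : IsWeaklyRegular T rs) (hmem : ∀ r ∈ rs, r ∈ maximalIdeal T) :
    IsRegular T rs := by
  refine ⟨h, fun htop => ?_⟩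
  rw [smul_eq_mul, Ideal.mul_top] at htop
  have : (⊤ : Ideal T) ≤ maximalIdeal T := by
    rw [htop, Ideal.ofList, Ideal.span_le]
    exact hmem
  exact (Ideal.IsPrime.ne_top' (I := maximalIdeal T)) (top_le_iff.mp this)

/-- One step: given a regular prefix `ts` inside `J` of length less than the grade of `J`, there is
`t ∈ J` extending it to a longer regular sequence, avoiding two ideals not containing `J`. -/
theorem exists_regular_avoid {T : Type u} [CommRing T] [IsNoetherianRing T] (J : Ideal T)
    (ts : List T) (hts : ∀ t ∈ ts, t ∈ J)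
    (hreg : IsWeaklyRegular T ts) (hlt : (ts.length : ℕ∞) < LocCoh.idealDepth J T)
    (K₁ K₂ : Ideal T) (h₁ : ¬ J ≤ K₁) (h₂ : ¬ J ≤ K₂) :
    ∃ t ∈ J, t ∉ K₁ ∧ t ∉ K₂ ∧ IsWeaklyRegular T (ts ++ [t]) := by
  classical
  set M := T ⧸ (Ideal.ofList ts • (⊤ : Submodule T T)) with hM
  have hdep := Ega4B.DepthBasic.idealDepth_quot_ofList_add_length J ts hts T hreg
  have hpos : LocCoh.idealDepth J M ≠ 0 := by
    intro h0
    rw [h0, zero_add] at hdep
    rw [hdep] at hlt
    exact lt_irrefl _ hlt
  have hass : ∀ q ∈ associatedPrimes T M, ¬ J ≤ q := by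
    intro q hq hle
    exact hpos (Localalg.Depth2.idealDepth_eq_zero_of_le_associatedPrime hq hle)
  have hfin := associatedPrimes.finite T M
  have key : ¬ ((J : Set T) ⊆ (K₁ : Set T) ∪ K₂ ∪ ⋃ q ∈ (↑hfin.toFinset : Set (Ideal T)), (q : Set T)) := by
    intro hsub
    have h := (Ideal.subset_union_prime' (s := hfin.toFinset.image some)
      (f := fun o : Option (Ideal T) => o.getD K₁) (a := none) (b := some K₂) (I := J) (by
        intro o ho
        rw [Finset.mem_image] at ho
        obtain ⟨q, hq, rfl⟩ := ho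
        rw [Set.Finite.mem_toFinset] at hq
        exact hq.isPrime)).mp (by
        refine hsub.trans ?_
        refine Set.union_subset_union (by simp) ?_
        intro x hx
        simp only [Set.mem_iUnion] at hx ⊢
        obtain ⟨q, hq, hx⟩ := hx
        exact ⟨some q, by simpa using hq, by simpa using hx⟩)
    rcases h with h | h | ⟨o, ho, h⟩
    · exact h₁ (by simpa using h)
    · exact h₂ (by simpa using h)
    · rw [Finset.mem_image] at ho
      obtain ⟨q, hq, rfl⟩ := ho
      rw [Set.Finite.mem_toFinset] at hq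
      exact hass q hq (by simpa using h)
  rw [Set.not_subset] at key
  obtain ⟨t, htJ, ht⟩ := key
  simp only [Set.mem_union, not_or] at ht
  obtain ⟨⟨ht1, ht2⟩, ht3⟩ := ht
  refine ⟨t, htJ, ht1, ht2, ?_⟩
  rw [isWeaklyRegular_append_iff]
  refine ⟨hreg, ?_⟩
  rw [isWeaklyRegular_singleton_iff]
  by_contra hnr
  apply ht3
  have h2 : t ∈ ⋃ p ∈ associatedPrimes T M, (p : Set T) := by
    rw [biUnion_associatedPrimes_eq_compl_regular]
    exact hnr
  simpa using h2

/-- A regular sequence inside `J` of length less than the grade of `J` does not generate `J`. -/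
theorem not_le_ofList {T : Type u} [CommRing T] [IsNoetherianRing T] (J : Ideal T) (hJ : J ≠ ⊤)
    (ts : List T) (hts : ∀ t ∈ ts, t ∈ J)
    (hreg : IsWeaklyRegular T ts) (hlt : (ts.length : ℕ∞) < LocCoh.idealDepth J T) :
    ¬ J ≤ Ideal.ofList ts := by
  intro hle
  have hdep := Ega4B.DepthBasic.idealDepth_quot_ofList_add_length J ts hts T hreg
  have hpos : LocCoh.idealDepth J (T ⧸ (Ideal.ofList ts • (⊤ : Submodule T T))) ≠ 0 := by
    intro h0
    rw [h0, zero_add] at hdep
    rw [hdep] at hlt
    exact lt_irrefl _ hlt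
  have hle' : Ideal.ofList ts ≤ J := Ideal.span_le.mpr hts
  have heq : Ideal.ofList ts • (⊤ : Submodule T T) = Ideal.ofList ts := by
    rw [smul_eq_mul, Ideal.mul_top]
  have hnt : Nontrivial (T ⧸ (Ideal.ofList ts • (⊤ : Submodule T T))) := by
    rw [heq]
    exact Ideal.Quotient.nontrivial_iff.mpr fun h => hJ (top_le_iff.mp (h ▸ hle'))
  obtain ⟨q, hq⟩ := associatedPrimes.nonempty T (T ⧸ (Ideal.ofList ts • (⊤ : Submodule T T)))
  refine hpos (Localalg.Depth2.idealDepth_eq_zero_of_le_associatedPrime hq ?_)
  refine hle.trans ?_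
  have h3 := IsAssociatedPrime.annihilator_le hq
  rw [Submodule.annihilator_top] at h3
  refine le_trans ?_ h3
  intro x hx
  rw [Module.mem_annihilator]
  intro m
  obtain ⟨y, rfl⟩ := Submodule.Quotient.mk_surjective _ m
  rw [← Submodule.Quotient.mk_smul, Submodule.Quotient.mk_eq_zero, heq]
  exact Ideal.mul_mem_right _ _ hx

theorem nakayama {T : Type u} [CommRing T] [IsLocalRing T] [IsNoetherianRing T] {J N : Ideal T}
    (h : J ≤ maximalIdeal T * J ⊔ N) : J ≤ N := by
  refine Submodule.le_of_le_smul_of_le_jacobson_bot (I := maximalIdeal T)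
    (IsNoetherian.noetherian J) (maximalIdeal_le_jacobson _) ?_
  rw [sup_comm]
  exact h

/-- the empty prefix. -/
theorem exists_list_spanFinrank {T : Type u} [CommRing T] [IsNoetherianRing T] (J : Ideal T) :
    ∃ ts : List T, ts.length = Submodule.spanFinrank J ∧ Ideal.ofList ts = J := by
  obtain ⟨s, hs, hs'⟩ := Submodule.FG.exists_span_finset_card_eq_spanFinrank
    (IsNoetherian.noetherian J)
  refine ⟨s.toList, by simpa using hs, ?_⟩
  rw [Ideal.ofList]
  simpa using hs'

theorem spanFinrank_ofList_le {T : Type u} [CommRing T] (ts : List T) :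
    Submodule.spanFinrank (Ideal.ofList ts) ≤ ts.length := by
  classical
  have h : Ideal.ofList ts = Submodule.span T (ts.toFinset : Set T) := by
    simp [Ideal.ofList]
  rw [h]
  refine (Submodule.spanFinrank_span_le_ncard_of_finite (Finset.finite_toSet _)).trans ?_
  rw [Set.ncard_coe_finset]
  exact List.toFinset_card_le ts

/-- Minimal generating lists with a regular prefix of length at most the grade. -/
theorem exists_prefix {T : Type u} [CommRing T] [IsNoetherianRing T] [IsLocalRing T] (J : Ideal T)
    (hJT : J ≠ ⊤) (i : ℕ) (hi : (i : ℕ∞) ≤ LocCoh.idealDepth J T) :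
    ∃ ts ts' : List T, ts.length = i ∧ i + ts'.length = Submodule.spanFinrank J ∧
      Ideal.ofList (ts ++ ts') = J ∧ IsWeaklyRegular T ts := by
  induction i with
  | zero =>
    obtain ⟨l, hl, hl'⟩ := exists_list_spanFinrank J
    exact ⟨[], l, rfl, by simpa using hl, by simpa using hl', IsWeaklyRegular.nil T T⟩
  | succ i ih =>
    obtain ⟨ts, ts', h1, h2, h3, h4⟩ := ih (le_trans (by exact_mod_cast Nat.le_succ i) hi)
    have hts : ∀ t ∈ ts, t ∈ J := fun t ht => h3 ▸ mem_ofList (List.mem_append_left _ ht)
    have hlt : (ts.length : ℕ∞) < LocCoh.idealDepth J T := by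
      rw [h1]
      exact lt_of_lt_of_le (by exact_mod_cast Nat.lt_succ_self i) hi
    have hK : ¬ J ≤ maximalIdeal T * J ⊔ Ideal.ofList ts := fun h =>
      not_le_ofList J hJT ts hts h4 hlt (nakayama h)
    obtain ⟨t, htJ, ht, -, hreg⟩ := exists_regular_avoid J ts hts h4 hlt _ _ hK hK
    obtain ⟨l', hl', hl''⟩ := exchange (Ideal.ofList ts) ts' J t
      (by rw [← ofList_append, h3]) htJ ht
    refine ⟨ts ++ [t], l', by simp [h1], by omega, ?_, hreg⟩
    rw [ofList_append, ofList_append, Ideal.ofList_singleton]
    exact hl''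

/-- Minimal generating lists with a regular prefix of length at most the grade, minimal in a
second local ring. -/
theorem exists_prefix₂ {T : Type u} [CommRing T] [IsNoetherianRing T] [IsLocalRing T]
    {T' : Type v} [CommRing T'] [IsNoetherianRing T'] [IsLocalRing T'] (A : T →+* T') (J : Ideal T)
    (hJT : J ≠ ⊤) (i : ℕ) (hi : (i : ℕ∞) ≤ LocCoh.idealDepth J T)
    (hi' : i ≤ Submodule.spanFinrank (J.map A)) :
    ∃ (ts ts' : List T) (us : List T'), ts.length = i ∧ i + ts'.length = Submodule.spanFinrank J ∧
      Ideal.ofList (ts ++ ts') = J ∧ IsWeaklyRegular T ts ∧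
      i + us.length = Submodule.spanFinrank (J.map A) ∧
      (Ideal.ofList ts).map A ⊔ Ideal.ofList us = J.map A := by
  induction i with
  | zero =>
    obtain ⟨l, hl, hl'⟩ := exists_list_spanFinrank J
    obtain ⟨m, hm, hm'⟩ := exists_list_spanFinrank (J.map A)
    exact ⟨[], l, m, rfl, by simpa using hl, by simpa using hl', IsWeaklyRegular.nil T T,
      by simpa using hm, by simpa using hm'⟩
  | succ i ih =>
    obtain ⟨ts, ts', us, h1, h2, h3, h4, h5, h6⟩ :=
      ih (le_trans (by exact_mod_cast Nat.le_succ i) hi) (by omega)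
    have hts : ∀ t ∈ ts, t ∈ J := fun t ht => h3 ▸ mem_ofList (List.mem_append_left _ ht)
    have hlt : (ts.length : ℕ∞) < LocCoh.idealDepth J T := by
      rw [h1]
      exact lt_of_lt_of_le (by exact_mod_cast Nat.lt_succ_self i) hi
    have hK : ¬ J ≤ maximalIdeal T * J ⊔ Ideal.ofList ts := fun h =>
      not_le_ofList J hJT ts hts h4 hlt (nakayama h)
    have hK' : ¬ J ≤ (maximalIdeal T' * J.map A ⊔ (Ideal.ofList ts).map A).comap A := by
      intro h
      rw [← Ideal.map_le_iff_le_comap] at h
      have h7 := nakayama h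
      have h8 : (Ideal.ofList ts).map A = J.map A :=
        le_antisymm (Ideal.map_mono (Ideal.span_le.mpr hts)) h7
      have h9 : Submodule.spanFinrank (J.map A) ≤ i := by
        rw [← h8, Ideal.map_ofList, ← h1]
        simpa using spanFinrank_ofList_le (ts.map A)
      omega
    obtain ⟨t, htJ, ht, ht', hreg⟩ := exists_regular_avoid J ts hts h4 hlt _ _ hK hK'
    obtain ⟨l', hl', hl''⟩ := exchange (Ideal.ofList ts) ts' J t
      (by rw [← ofList_append, h3]) htJ ht
    obtain ⟨m', hm', hm''⟩ := exchange ((Ideal.ofList ts).map A) us (J.map A) (A t)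
      h6 (Ideal.mem_map_of_mem A htJ) ht'
    refine ⟨ts ++ [t], l', m', by simp [h1], by omega, ?_, hreg, by omega, ?_⟩
    · rw [ofList_append, ofList_append, Ideal.ofList_singleton]
      exact hl''
    · have e : Ideal.map A (Ideal.span {t}) = Ideal.span {A t} := by
        rw [Ideal.map_span, Set.image_singleton]
      rw [ofList_append, Ideal.ofList_singleton, Ideal.map_sup, e]
      exact hm''

end Groth.Agent.GRRSing.K937.RegPrefix
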